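import Groth.Agent.RepOne.Desc
import Groth.Agent.DecSec.QuotFib
import Groth.Prelude.Def_StGerb2
/-!
The functor from torsors to a stack defined by a point and its group of automorphisms.
-/

set_option autoImplicit false
set_option backward.isDefEq.respectTransparency false
set_option backward.isDefEq.respectTransparency.types false

universe u

open CategoryTheory CategoryTheory.Limits MonoidalCategory CartesianMonoidalCategory AlgebraicGeometry Opposite

namespace Groth.Agent.BGPointLib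

open Groth.Agent.ASt Groth.Agent.RepOne

attribute [local instance] Hom.monoid Hom.group

variable {S : Scheme.{u}}

/-- The map to the base. -/
noncomputable abbrev tB (W : Over S) : W ⟶ Over.mk (𝟙 S) := Over.homMk W.hom (Category.comp_id _)

theorem comp_tB {W' W : Over S} (k : W' ⟶ W) : k ≫ tB W = tB W' :=
  Over.OverMorphism.ext (Over.w k)

variable {𝒳 : AlgSt.Cat S} [FibCat.IsFibGrpd 𝒳.p] (x : FibCat.overCat (Over.mk (𝟙 S)) ⥤ᵇ 𝒳)

/-- The restriction of the point. -/
noncomputable abbrev xW (W : Over S) : 𝒳.obj := x.obj (ov (tB W))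

theorem xW_base (W : Over S) : 𝒳.p.obj (xW x W) = W := x.w_obj _

/-- The restriction maps of the point. -/
noncomputable def xmap {W' W : Over S} (k : W' ⟶ W) : xW x W' ⟶ xW x W :=
  x.map (Over.homMk k (comp_tB k))

theorem map_xmap {W' W : Over S} (k : W' ⟶ W) :
    𝒳.p.map (xmap x k) = eqToHom (xW_base x W') ≫ k ≫ eqToHom (xW_base x W).symm :=
  map_w x _

theorem xmap_id (W : Over S) : xmap x (𝟙 W) = 𝟙 _ := by
  rw [xmap, show (Over.homMk (𝟙 W) (comp_tB _) : ov (tB W) ⟶ ov (tB W)) = 𝟙 _ from Over.OverMorphism.ext rfl]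
  exact x.toFunctor.map_id _

theorem xmap_comp {W'' W' W : Over S} (j : W'' ⟶ W') (k : W' ⟶ W) :
    xmap x (j ≫ k) = xmap x j ≫ xmap x k := by
  rw [xmap, xmap, xmap, ← x.toFunctor.map_comp]
  exact congrArg (fun m => x.map m) (Over.OverMorphism.ext rfl)

variable {G : Over S} [GrpObj G] (r : Gerb.AutRep x (Gerb.ptsGrp (Over.mk (𝟙 S)) G))

/-- A point as an element of the presheaf of groups. -/
noncomputable abbrev toPt {W : Over S} (g : W ⟶ G) :
    (Gerb.ptsGrp (Over.mk (𝟙 S)) G).obj (op (ov (tB W))) :=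
  Over.homMk g.left (Over.w g)

/-- The automorphism of the point attached to a group element. -/
noncomputable def act {W : Over S} (g : W ⟶ G) : xW x W ⟶ xW x W :=
  (r.iso (ov (tB W)) (toPt g)).hom.1

theorem map_act {W : Over S} (g : W ⟶ G) : 𝒳.p.map (act x r g) = 𝟙 _ := by
  haveI := (r.iso (ov (tB W)) (toPt g)).hom.2
  simpa [act] using map_of_isHomLift_id (R := 𝒳.p.obj (xW x W)) (r.iso (ov (tB W)) (toPt g)).hom.1

theorem act_mul {W : Over S} (g h : W ⟶ G) : act x r g ≫ act x r h = act x r (h * g) := by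
  have e : toPt (h * g) = toPt h * toPt g := rfl
  rw [act, act, act, e, map_mul]
  rfl

theorem act_one (W : Over S) : act x r (1 : W ⟶ G) = 𝟙 _ := by
  have e : toPt (1 : W ⟶ G) = 1 := rfl
  rw [act, e, map_one]
  rfl

theorem act_natural {W' W : Over S} (k : W' ⟶ W) (g : W ⟶ G) :
    act x r (k ≫ g) ≫ xmap x k = xmap x k ≫ act x r g :=
  r.natural (Over.homMk k (comp_tB k) : ov (tB W') ⟶ ov (tB W)) (toPt g)

theorem act_inv_cancel {W : Over S} (g : W ⟶ G) {Z : 𝒳.obj} (v : xW x W ⟶ Z) :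
    act x r g ≫ act x r g⁻¹ ≫ v = v := by
  rw [← Category.assoc, act_mul, inv_mul_cancel, act_one, Category.id_comp]

theorem act_injective {W : Over S} {g h : W ⟶ G} (e : act x r g = act x r h) : g = h := by
  have h1 : toPt g = toPt h :=
    (r.iso (ov (tB W))).injective (Iso.ext (Functor.Fiber.hom_ext e))
  exact Over.OverMorphism.ext (congrArg CommaMorphism.left h1)

variable (A : AlgSt.QuotObj Scheme.fppfPrecoverage G (AlgSt.trivAction G))

/-- The translate of a point of a torsor. -/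
noncomputable abbrev tr {W : Over S} (g : W ⟶ G) (p : W ⟶ A.P) : W ⟶ A.P := lift g p ≫ A.act.act

theorem tr_π {W : Over S} (g : W ⟶ G) (p : W ⟶ A.P) : tr A g p ≫ A.π = p ≫ A.π := by
  rw [Category.assoc, A.cart.w, lift_snd_assoc]

theorem comp_tr {W' W : Over S} (k : W' ⟶ W) (g : W ⟶ G) (p : W ⟶ A.P) :
    k ≫ tr A g p = tr A (k ≫ g) (k ≫ p) := by
  rw [← Category.assoc, comp_lift]

theorem tr_one {W : Over S} (p : W ⟶ A.P) : tr A 1 p = p := by
  have : lift (1 : W ⟶ G) p = p ≫ (λ_ A.P).inv ≫ (MonObj.one ▷ A.P) := by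
    apply CartesianMonoidalCategory.hom_ext
    · simp [MonObj.one_eq_one]
    · simp
  rw [tr, this]
  simp only [Category.assoc, A.act.one_act, Iso.inv_hom_id, Category.comp_id]

theorem tr_tr {W : Over S} (g h : W ⟶ G) (p : W ⟶ A.P) : tr A g (tr A h p) = tr A (g * h) p := by
  have h1 : lift (g * h) p ≫ A.act.act =
      lift (lift g h) p ≫ (MonObj.mul ▷ A.P) ≫ A.act.act := by
    rw [← Category.assoc, lift_whiskerRight, Hom.mul_def]
  rw [tr, tr, tr, h1, A.act.mul_act, ← Category.assoc (lift (lift g h) p) (α_ G G A.P).hom,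
    lift_lift_associator_hom, ← Category.assoc, lift_whiskerLeft]

theorem tr_injective {W : Over S} {g h : W ⟶ G} {p : W ⟶ A.P} (e : tr A g p = tr A h p) : g = h := by
  have := A.cart.hom_ext (e : lift g p ≫ A.act.act = lift h p ≫ A.act.act)
    (show lift g p ≫ snd G A.P = lift h p ≫ snd G A.P by rw [lift_snd, lift_snd])
  simpa using congrArg (fun m => m ≫ fst G A.P) this

theorem exists_tr {W : Over S} (p q : W ⟶ A.P) (e : p ≫ A.π = q ≫ A.π) : ∃ g : W ⟶ G, tr A g p = q := by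
  refine ⟨A.cart.lift q p e.symm ≫ fst G A.P, ?_⟩
  have : lift (A.cart.lift q p e.symm ≫ fst G A.P) p = A.cart.lift q p e.symm := by
    apply CartesianMonoidalCategory.hom_ext
    · rw [lift_fst]
    · rw [lift_snd, A.cart.lift_snd]
  rw [tr, this, A.cart.lift_fst]

/-- The condition defining the value of the functor on a torsor. -/
def IsEqv {y : 𝒳.obj} (u : xW x A.P ⟶ y) : Prop :=
  ∀ {W : Over S} (g : W ⟶ G) (p : W ⟶ A.P),
    xmap x (tr A g p) ≫ u = act x r g⁻¹ ≫ xmap x p ≫ u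

/-- The sieve of maps which lift to the torsor. -/
def facSieve : Sieve A.base where
  arrows W k := ∃ p : W ⟶ A.P, p ≫ A.π = k
  downward_closed := fun ⟨p, hp⟩ j => ⟨j ≫ p, by rw [Category.assoc, hp]⟩

theorem facSieve_mem : facSieve A ∈ QuotSh.J Scheme.fppfPrecoverage S A.base := by
  obtain ⟨R, hR, hs⟩ := A.loc
  change _ ∈ (Scheme.fppfPrecoverage.toGrothendieck.over S) A.base
  rw [GrothendieckTopology.mem_over_iff]
  refine Scheme.fppfPrecoverage.toGrothendieck.superset_covering ?_ (Precoverage.generate_mem_toGrothendieck hR)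
  rintro T h ⟨Z, k, f, hf, rfl⟩
  obtain ⟨s, hs⟩ := hs f hf
  rw [Sieve.overEquiv_iff]
  let s' : Over.mk (f ≫ A.base.hom) ⟶ A.P := Over.homMk s (by
    change s ≫ A.P.hom = f ≫ A.base.hom
    rw [← Over.w A.π, ← Category.assoc]
    exact congrArg (· ≫ A.base.hom) hs)
  let k' : Over.mk ((k ≫ f) ≫ A.base.hom) ⟶ Over.mk (f ≫ A.base.hom) :=
    Over.homMk k (Category.assoc _ _ _).symm
  exact ⟨k' ≫ s', Over.OverMorphism.ext ((Category.assoc _ _ _).trans (congrArg (k ≫ ·) hs))⟩

/-- The chosen lift of a member. -/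
noncomputable def pOf (s : (Stk.sieveCat (facSieve A)).obj) : s.obj.left ⟶ A.P := s.property.choose

theorem pOf_π (s : (Stk.sieveCat (facSieve A)).obj) : pOf A s ≫ A.π = s.obj.hom := s.property.choose_spec

theorem exists_trans {s t : (Stk.sieveCat (facSieve A)).obj} (m : s ⟶ t) :
    ∃ g : s.obj.left ⟶ G, tr A g (pOf A s) = m.hom.left ≫ pOf A t :=
  exists_tr A _ _ (by rw [pOf_π, Category.assoc, pOf_π, Over.w m.hom])

/-- The transition element. -/
noncomputable def trans' {s t : (Stk.sieveCat (facSieve A)).obj} (m : s ⟶ t) : s.obj.left ⟶ G :=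
  (exists_trans A m).choose

theorem tr_trans' {s t : (Stk.sieveCat (facSieve A)).obj} (m : s ⟶ t) :
    tr A (trans' A m) (pOf A s) = m.hom.left ≫ pOf A t :=
  (exists_trans A m).choose_spec

theorem trans'_id (s : (Stk.sieveCat (facSieve A)).obj) : trans' A (𝟙 s) = 1 :=
  tr_injective A ((tr_trans' A _).trans ((Category.id_comp _).trans (tr_one A _).symm))

theorem trans'_comp {a b c : (Stk.sieveCat (facSieve A)).obj} (m : a ⟶ b) (n : b ⟶ c) :
    trans' A (m ≫ n) = (m.hom.left ≫ trans' A n) * trans' A m := by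
  refine tr_injective A ((tr_trans' A _).trans ?_)
  rw [← tr_tr, tr_trans', ← comp_tr, tr_trans', ← Category.assoc]
  rfl

/-- The descent datum of a torsor. -/
noncomputable def datum : Stk.sieveCat (facSieve A) ⥤ᵇ 𝒳 where
  toFunctor :=
    { obj := fun s => xW x s.obj.left
      map := fun {s t} m => act x r (trans' A m) ≫ xmap x m.hom.left
      map_id := fun s => by rw [trans'_id, act_one, Category.id_comp]; exact xmap_id x _
      map_comp := fun {a b c} m n => by
        rw [Category.assoc, ← Category.assoc (xmap x m.hom.left), ← act_natural, Category.assoc, ← xmap_comp,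
          ← Category.assoc (act x r (trans' A m)), act_mul, ← trans'_comp]
        rfl }
  w := CategoryTheory.Functor.ext (fun s => xW_base x _) fun s t m => by
    change 𝒳.p.map (act x r (trans' A m) ≫ xmap x m.hom.left) = _
    rw [Functor.map_comp, map_act, Category.id_comp, map_xmap]
    rfl

theorem datum_map {s t : (Stk.sieveCat (facSieve A)).obj} (m : s ⟶ t) :
    (datum x r A).map m = act x r (trans' A m) ≫ xmap x m.hom.left := rfl

variable {A}

/-- The cone of an equivariant morphism. -/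
noncomputable def coneOfEqv {y : 𝒳.obj} (hy : 𝒳.p.obj y = A.base) (u : xW x A.P ⟶ y)
    (hu : 𝒳.p.map u = eqToHom (xW_base x A.P) ≫ A.π ≫ eqToHom hy.symm) (he : IsEqv x r A u) :
    SCone (datum x r A) where
  pt := y
  base := hy
  ι s := xmap x (pOf A s) ≫ u
  map_ι s := by
    rw [Functor.map_comp, map_xmap, hu]
    simp [reassoc_of% (pOf_π A s)]
  nat {s t} m := by
    rw [datum_map, Category.assoc, ← Category.assoc (xmap x m.hom.left), ← xmap_comp, ← tr_trans', he,
      act_inv_cancel]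

theorem eqv_ext {y : 𝒳.obj} {u u' : xW x A.P ⟶ y} (he : IsEqv x r A u) (he' : IsEqv x r A u')
    (hs : Stk.IsStack (QuotSh.J Scheme.fppfPrecoverage S) 𝒳) (hu : 𝒳.p.map u = 𝒳.p.map u')
    (h : ∀ s : (Stk.sieveCat (facSieve A)).obj, xmap x (pOf A s) ≫ u = xmap x (pOf A s) ≫ u') : u = u' := by
  let s₀ : (Stk.sieveCat (facSieve A)).obj := ⟨Over.mk A.π, ⟨𝟙 _, Category.id_comp _⟩⟩
  obtain ⟨g, hg⟩ := exists_tr A (pOf A s₀) (𝟙 A.P) ((pOf_π A s₀).trans (Category.id_comp A.π).symm)
  have h1 := he g (pOf A s₀)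
  have h2 := he' g (pOf A s₀)
  replace h1 : xmap x (𝟙 A.P) ≫ u = act x r g⁻¹ ≫ xmap x (pOf A s₀) ≫ u := (congrArg (fun q => xmap x q ≫ u) hg).symm.trans h1
  replace h2 : xmap x (𝟙 A.P) ≫ u' = act x r g⁻¹ ≫ xmap x (pOf A s₀) ≫ u' := (congrArg (fun q => xmap x q ≫ u') hg).symm.trans h2
  rw [xmap_id, Category.id_comp] at h1 h2
  rw [h1, h2]
  exact congrArg (act x r g⁻¹ ≫ ·) (h s₀)

/-- The member attached to a point of the torsor. -/
@[reducible] def mkS (A : AlgSt.QuotObj Scheme.fppfPrecoverage G (AlgSt.trivAction G)) {W : Over S} (p : W ⟶ A.P) :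
    (Stk.sieveCat (facSieve A)).obj := ⟨Over.mk (p ≫ A.π), ⟨p, rfl⟩⟩

theorem exists_eqv_of_cone (c : SCone (datum x r A)) :
    ∃ u : xW x A.P ⟶ c.pt, 𝒳.p.map u = eqToHom (xW_base x A.P) ≫ A.π ≫ eqToHom c.base.symm ∧
      IsEqv x r A u ∧ ∀ s, xmap x (pOf A s) ≫ u = c.ι s := by
  have hg : ∀ {W : Over S} (p : W ⟶ A.P), ∃ g : W ⟶ G, tr A g (pOf A (mkS A p)) = p := fun p =>
    exists_tr A _ _ (pOf_π A (mkS A p))
  choose g hg using @hg
  let j : ∀ {W : Over S} (p : W ⟶ A.P), xW x W ⟶ c.pt := fun p => act x r (g p)⁻¹ ≫ c.ι (mkS A p)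
  have key : ∀ (s : (Stk.sieveCat (facSieve A)).obj) (h : s.obj.left ⟶ G) (p : s.obj.left ⟶ A.P),
      tr A h (pOf A s) = p → j p = act x r h⁻¹ ≫ c.ι s := by
    intro s h p hp
    let m : s ⟶ mkS A p := ObjectProperty.homMk (Over.homMk (𝟙 s.obj.left) (by
      change 𝟙 _ ≫ p ≫ A.π = _
      rw [Category.id_comp, ← hp, tr_π, pOf_π]))
    have hm : g p * trans' A m = h := by
      refine tr_injective A (Eq.trans ?_ hp.symm)
      rw [← tr_tr, tr_trans']
      exact (congrArg (tr A (g p)) (Category.id_comp _)).trans (hg p)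
    rw [← c.nat m, datum_map, ← hm, mul_inv_rev, ← act_mul]
    change _ = (act x r (g p)⁻¹ ≫ act x r (trans' A m)⁻¹) ≫ (act x r (trans' A m) ≫ xmap x (𝟙 _)) ≫ c.ι (mkS A p)
    rw [xmap_id]
    simp only [Category.assoc, Category.id_comp]
    rw [← Category.assoc (act x r (trans' A m)⁻¹), act_mul, mul_inv_cancel, act_one, Category.id_comp]
  have hj : ∀ {W' W : Over S} (k : W' ⟶ W) (p : W ⟶ A.P), j (k ≫ p) = xmap x k ≫ j p := by
    intro W' W k p
    let s := mkS A (k ≫ p)
    let m : s ⟶ mkS A p := ObjectProperty.homMk (Over.homMk k (by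
      change k ≫ p ≫ A.π = (k ≫ p) ≫ A.π
      rw [Category.assoc]))
    have hk : g (k ≫ p) = @HMul.hMul (W' ⟶ G) (W' ⟶ G) (W' ⟶ G) _ (k ≫ g p) (trans' A m) := by
      refine tr_injective A ((hg _).trans ?_)
      rw [← tr_tr, tr_trans']
      exact (congrArg (k ≫ ·) (hg p).symm).trans (comp_tr A k _ _)
    change act x r (g (k ≫ p))⁻¹ ≫ c.ι s = xmap x k ≫ act x r (g p)⁻¹ ≫ c.ι (mkS A p)
    rw [← Category.assoc (xmap x k), ← act_natural, Category.assoc, ← c.nat m, datum_map, hk, mul_inv_rev,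
      ← act_mul]
    simp only [Category.assoc, GrpObj.comp_inv]
    rw [← Category.assoc (act x r (trans' A m)⁻¹), act_mul, mul_inv_cancel, act_one, Category.id_comp]
    rfl
  have hju : ∀ {W : Over S} (p : W ⟶ A.P), xmap x p ≫ j (𝟙 A.P) = j p := fun p => by
    rw [← hj, Category.comp_id]
  refine ⟨j (𝟙 A.P), ?_, fun {W} h p => ?_, fun s => ?_⟩
  · change 𝒳.p.map (act x r (g (𝟙 A.P))⁻¹ ≫ c.ι (mkS A (𝟙 A.P))) = _
    rw [Functor.map_comp, map_act, c.map_ι]
    change 𝟙 _ ≫ _ ≫ (𝟙 A.P ≫ A.π) ≫ _ = _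
    simp
  · rw [hju, hju]
    change _ = act x r h⁻¹ ≫ act x r (g p)⁻¹ ≫ c.ι (mkS A p)
    rw [← Category.assoc, act_mul, ← mul_inv_rev]
    let m : mkS A (tr A h p) ⟶ mkS A p := ObjectProperty.homMk (Over.homMk (𝟙 W) (by
      change 𝟙 W ≫ p ≫ A.π = tr A h p ≫ A.π
      rw [Category.id_comp, tr_π]))
    have hm : g (tr A h p) = @HMul.hMul (W ⟶ G) (W ⟶ G) (W ⟶ G) _ (h * g p) (trans' A m) := by
      refine tr_injective A ((hg _).trans ?_)
      rw [← tr_tr, tr_trans', ← tr_tr]
      exact congrArg (tr A h) ((congrArg (tr A (g p)) (Category.id_comp _)).trans (hg p)).symm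
    change act x r (g (tr A h p))⁻¹ ≫ c.ι (mkS A (tr A h p)) = _
    rw [← c.nat m, datum_map, hm, mul_inv_rev _ (trans' A m), ← act_mul]
    change (act x r _ ≫ act x r _) ≫ (_ ≫ xmap x (𝟙 W)) ≫ _ = _
    rw [xmap_id]
    simp only [Category.assoc, Category.id_comp]
    rw [← Category.assoc (act x r (trans' A m)⁻¹), act_mul, mul_inv_cancel, act_one, Category.id_comp]
  · rw [hju, key s 1 _ (tr_one A _), inv_one, act_one, Category.id_comp]

variable (A) in
theorem exists_value (hs : Stk.IsStack (QuotSh.J Scheme.fppfPrecoverage S) 𝒳) :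
    ∃ (y : 𝒳.obj) (hy : 𝒳.p.obj y = A.base) (u : xW x A.P ⟶ y),
      𝒳.p.map u = eqToHom (xW_base x A.P) ≫ A.π ≫ eqToHom hy.symm ∧ IsEqv x r A u := by
  obtain ⟨c⟩ := (isStack_iff.1 hs _ (facSieve_mem A)).2 (datum x r A)
  obtain ⟨u, hu, he, -⟩ := exists_eqv_of_cone x r c
  exact ⟨c.pt, c.base, u, hu, he⟩

/-- An equivariant morphism is initial among equivariant morphisms. -/
theorem existsUnique_fac_eqv (hs : Stk.IsStack (QuotSh.J Scheme.fppfPrecoverage S) 𝒳)
    {y : 𝒳.obj} (hy : 𝒳.p.obj y = A.base) (u : xW x A.P ⟶ y)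
    (hu : 𝒳.p.map u = eqToHom (xW_base x A.P) ≫ A.π ≫ eqToHom hy.symm) (he : IsEqv x r A u)
    {z : 𝒳.obj} {T : Over S} (hz : 𝒳.p.obj z = T) (f : A.base ⟶ T) (v : xW x A.P ⟶ z)
    (hv : 𝒳.p.map v = eqToHom (xW_base x A.P) ≫ A.π ≫ f ≫ eqToHom hz.symm) (hve : IsEqv x r A v) :
    ∃! φ : y ⟶ z, 𝒳.p.map φ = eqToHom hy ≫ f ≫ eqToHom hz.symm ∧ u ≫ φ = v := by
  let z' := pull z hz f
  have hz' : 𝒳.p.obj z' = A.base := pull_base z hz f
  let q : z' ⟶ z := pullHom z hz f
  have hq : 𝒳.p.map q = eqToHom hz' ≫ f ≫ eqToHom hz.symm := map_pullHom _ _ _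
  let v' := facMap q v (eqToHom (xW_base x A.P) ≫ A.π ≫ eqToHom hz'.symm) (by rw [hq, hv]; simp)
  have hv' : v' ≫ q = v := facMap_comp _ _ _ _
  have hv'm : 𝒳.p.map v' = eqToHom (xW_base x A.P) ≫ A.π ≫ eqToHom hz'.symm := map_facMap _ _ _ _
  have hve' : IsEqv x r A v' := fun g p => by
    refine ASt.hom_ext q ?_ ?_
    · simp only [Functor.map_comp, map_xmap, map_act, Category.id_comp, hv'm, Category.assoc, eqToHom_trans_assoc,
        eqToHom_refl, reassoc_of% (tr_π A g p)]
    · simp only [Category.assoc, hv']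
      exact hve g p
  obtain ⟨χ, ⟨hχ, hχι⟩, hχu⟩ := (isStack_iff.1 hs _ (facSieve_mem A)).1 (datum x r A)
    (coneOfEqv x r hy u hu he) (coneOfEqv x r hz' v' hv'm hve')
  have hχ' : 𝒳.p.map χ = eqToHom (hy.trans hz'.symm) := hχ
  have he'' : IsEqv x r A (u ≫ χ) := fun g p => by
    rw [← Category.assoc, he g p]
    simp only [Category.assoc]
  have huχ : u ≫ χ = v' := eqv_ext x r he'' hve' hs (by rw [Functor.map_comp, hu, hχ', hv'm]; simp)
    fun s => (Category.assoc _ _ _).symm.trans (hχι s)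
  refine ⟨χ ≫ q, ⟨?_, by rw [← Category.assoc, huχ, hv']⟩, fun φ hφ => ?_⟩
  · rw [Functor.map_comp, hχ', hq]
    simp
  · let χ' := facMap q φ (eqToHom (hy.trans hz'.symm)) (by rw [hq, hφ.1]; simp)
    have h1 : χ' ≫ q = φ := facMap_comp _ _ _ _
    have h2 : u ≫ χ' = v' := ASt.hom_ext q (by rw [Functor.map_comp, hu, map_facMap, hv'm]; simp)
      (by rw [Category.assoc, h1, hφ.2, hv'])
    have h3 : χ' = χ := hχu χ' ⟨map_facMap _ _ _ _, fun s => (Category.assoc _ _ _).trans
      (congrArg (xmap x (pOf A s) ≫ ·) h2)⟩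
    rw [← h1, h3]

variable (hs : Stk.IsStack (QuotSh.J Scheme.fppfPrecoverage S) 𝒳)

/-- The value of the functor on a torsor. -/
noncomputable def fObj (A : AlgSt.QuotObj Scheme.fppfPrecoverage G (AlgSt.trivAction G)) : 𝒳.obj :=
  (exists_value x r A hs).choose

theorem fObj_base (A) : 𝒳.p.obj (fObj x r hs A) = A.base := (exists_value x r A hs).choose_spec.choose

/-- The universal morphism to the value. -/
noncomputable def uM (A) : xW x A.P ⟶ fObj x r hs A := (exists_value x r A hs).choose_spec.choose_spec.choose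

theorem map_uM (A) : 𝒳.p.map (uM x r hs A) =
    eqToHom (xW_base x A.P) ≫ A.π ≫ eqToHom (fObj_base x r hs A).symm :=
  (exists_value x r A hs).choose_spec.choose_spec.choose_spec.1

theorem isEqv_uM (A) : IsEqv x r A (uM x r hs A) :=
  (exists_value x r A hs).choose_spec.choose_spec.choose_spec.2

theorem isEqv_top {A B : AlgSt.QuotObj Scheme.fppfPrecoverage G (AlgSt.trivAction G)} (f : A ⟶ B) :
    IsEqv x r A (xmap x f.top ≫ uM x r hs B) := fun {W} g p => by
  have h : tr A g p ≫ f.top = tr B g (p ≫ f.top) := by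
    rw [tr, tr, Category.assoc, f.eqv, ← Category.assoc, lift_whiskerLeft]
  rw [← Category.assoc, ← xmap_comp, h, isEqv_uM, xmap_comp]
  simp only [Category.assoc]

theorem existsUnique_fMap {A B : AlgSt.QuotObj Scheme.fppfPrecoverage G (AlgSt.trivAction G)} (f : A ⟶ B) :
    ∃! φ : fObj x r hs A ⟶ fObj x r hs B,
      𝒳.p.map φ = eqToHom (fObj_base x r hs A) ≫ f.base ≫ eqToHom (fObj_base x r hs B).symm ∧
      uM x r hs A ≫ φ = xmap x f.top ≫ uM x r hs B :=
  existsUnique_fac_eqv x r hs (fObj_base x r hs A) _ (map_uM x r hs A) (isEqv_uM x r hs A)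
    (fObj_base x r hs B) f.base _ (by
      rw [Functor.map_comp, map_xmap, map_uM]
      simp [reassoc_of% f.cart.w]) (isEqv_top x r hs f)

/-- The value on morphisms. -/
noncomputable def fMap {A B : AlgSt.QuotObj Scheme.fppfPrecoverage G (AlgSt.trivAction G)} (f : A ⟶ B) :
    fObj x r hs A ⟶ fObj x r hs B := (existsUnique_fMap x r hs f).choose

theorem map_fMap {A B : AlgSt.QuotObj Scheme.fppfPrecoverage G (AlgSt.trivAction G)} (f : A ⟶ B) :
    𝒳.p.map (fMap x r hs f) = eqToHom (fObj_base x r hs A) ≫ f.base ≫ eqToHom (fObj_base x r hs B).symm :=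
  (existsUnique_fMap x r hs f).choose_spec.1.1

theorem uM_fMap {A B : AlgSt.QuotObj Scheme.fppfPrecoverage G (AlgSt.trivAction G)} (f : A ⟶ B) :
    uM x r hs A ≫ fMap x r hs f = xmap x f.top ≫ uM x r hs B :=
  (existsUnique_fMap x r hs f).choose_spec.1.2

/-- The functor defined by a point and its automorphism group. -/
noncomputable def pointFun : AlgSt.BG Scheme.fppfPrecoverage G ⥤ᵇ 𝒳 where
  toFunctor :=
    { obj := fObj x r hs
      map := fun f => fMap x r hs f
      map_id := fun A => ((existsUnique_fMap x r hs (𝟙 A)).unique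
        ⟨map_fMap x r hs _, uM_fMap x r hs _⟩ ⟨by simp, by
          rw [Category.comp_id, show (𝟙 A : A ⟶ A).top = 𝟙 A.P from rfl, xmap_id, Category.id_comp]⟩)
      map_comp := fun {A B C} f g => ((existsUnique_fMap x r hs (f ≫ g)).unique
        ⟨map_fMap x r hs _, uM_fMap x r hs _⟩ ⟨by
          rw [Functor.map_comp, map_fMap, map_fMap]
          simp, by
          rw [← Category.assoc, uM_fMap, Category.assoc, uM_fMap, ← Category.assoc, ← xmap_comp]
          rfl⟩) }
  w := CategoryTheory.Functor.ext (fun A => fObj_base x r hs A) fun A B f => map_fMap x r hs f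

end Groth.Agent.BGPointLib
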