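import Groth.Agent.BGPointLib.Functor
import Groth.Agent.DecSec.GerbeEquiv
import Groth.Agent.DecSec.QuotTriv
import Groth.Agent.DecSec.QuotSpEquiv
/-!
A neutral gerbe over the base is the classifying stack of the automorphism group of its point.
-/

set_option autoImplicit false
set_option backward.isDefEq.respectTransparency false
set_option backward.isDefEq.respectTransparency.types false
set_option linter.style.haveILetI false
set_option linter.unusedSectionVars false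

universe u

open CategoryTheory CategoryTheory.Limits MonoidalCategory CartesianMonoidalCategory AlgebraicGeometry Opposite

namespace Groth.Agent.BGPointLib

open Groth.Agent.ASt Groth.Agent.RepOne Groth.Agent.DecSec

attribute [local instance] Hom.monoid Hom.group

variable {S : Scheme.{u}} {G : Over S} [GrpObj G]

/-- Torsors under an affine group scheme form a gerbe. -/
theorem isGerbe_BG [IsAffineHom G.hom] :
    Gerb.IsGerbe (QuotSh.J Scheme.fppfPrecoverage S) (AlgSt.BG Scheme.fppfPrecoverage G) := by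
  haveI : FibCat.IsFibGrpd (AlgSt.BG Scheme.fppfPrecoverage G).p := QuotSch.isFibGrpd_quot
  refine ⟨QuotSch.isStack_quot, fun U => ⟨⊤, GrothendieckTopology.top_mem _ _, fun V f _ =>
    ⟨QuotSch.qObj _ G (AlgSt.trivAction G) (toUnit V), f, isHomLift_of_map (𝒳 := FibCat.selfOver (Over S)) f rfl rfl ?_⟩⟩,
    fun A B b hb => ?_⟩
  · exact (Category.id_comp _).symm.trans (congrArg (_ ≫ ·) (Category.comp_id _).symm)
  · let R : Sieve A.base := facSieve A ⊓ (facSieve B).pullback b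
    refine ⟨R, GrothendieckTopology.intersection_covering _ (facSieve_mem A)
      (GrothendieckTopology.pullback_stable _ _ (facSieve_mem B)), fun V f hf => ?_⟩
    obtain ⟨⟨s, hs⟩, s', hs'⟩ := hf
    obtain ⟨m, ⟨hm, -⟩, -⟩ := QuotSch.existsUnique_hom (toUnit V) A f s hs (toUnit_unique _ _)
    obtain ⟨n, ⟨hn, -⟩, -⟩ := QuotSch.existsUnique_hom (toUnit V) B (f ≫ b) s' hs' (toUnit_unique _ _)
    haveI := hb
    have hb' := IsHomLift.fac' (FibCat.selfOver (Over S)).p (𝟙 ((AlgSt.BG Scheme.fppfPrecoverage G).p.obj A)) b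
    refine ⟨_, m, n, ?_, ?_, ?_⟩
    · exact isHomLift_of_map (𝒳 := AlgSt.BG Scheme.fppfPrecoverage G) m rfl rfl (by change m.base = _; rw [hm]; simp)
    · refine isHomLift_of_map (𝒳 := AlgSt.BG Scheme.fppfPrecoverage G) n rfl
        (IsHomLift.codomain_eq (FibCat.selfOver (Over S)).p (𝟙 ((AlgSt.BG Scheme.fppfPrecoverage G).p.obj A)) b) ?_
      change n.base = _
      rw [hn]
      refine (congrArg (f ≫ ·) hb').trans ?_
      simp
    · change m.base ≫ b = n.base
      rw [hm, hn]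

section Aut

variable (A : AlgSt.QuotObj Scheme.fppfPrecoverage G (AlgSt.trivAction G)) {σ : A.base ⟶ A.P}
  (hσ : σ ≫ A.π = 𝟙 A.base)

/-- The coordinate of a point of a torsor with a section. -/
noncomputable def coord {W : Over S} (p : W ⟶ A.P) : W ⟶ G :=
  (exists_tr A (p ≫ A.π ≫ σ) p (by simp only [Category.assoc, hσ, Category.comp_id])).choose

theorem tr_coord {W : Over S} (p : W ⟶ A.P) : tr A (coord A hσ p) (p ≫ A.π ≫ σ) = p :=
  (exists_tr A (p ≫ A.π ≫ σ) p (by simp only [Category.assoc, hσ, Category.comp_id])).choose_spec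

theorem coord_tr {W : Over S} (γ : W ⟶ G) (p : W ⟶ A.P) : coord A hσ (tr A γ p) = γ * coord A hσ p := by
  refine tr_injective A (p := tr A γ p ≫ A.π ≫ σ) ((tr_coord A hσ _).trans ?_)
  rw [← tr_tr, ← Category.assoc _ A.π σ, tr_π, Category.assoc, tr_coord]

theorem comp_coord {W' W : Over S} (k : W' ⟶ W) (p : W ⟶ A.P) : coord A hσ (k ≫ p) = k ≫ coord A hσ p := by
  refine tr_injective A (p := (k ≫ p) ≫ A.π ≫ σ) ((tr_coord A hσ _).trans ?_)
  rw [Category.assoc k p, ← comp_tr, tr_coord]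

/-- The translation in the fibres by a section of the group. -/
noncomputable def trTop (g : A.base ⟶ G) : A.P ⟶ A.P :=
  tr A (coord A hσ (𝟙 A.P) * (A.π ≫ g)) (A.π ≫ σ)

theorem comp_trTop {W : Over S} (g : A.base ⟶ G) (p : W ⟶ A.P) :
    p ≫ trTop A hσ g = tr A (coord A hσ p * (p ≫ A.π ≫ g)) (p ≫ A.π ≫ σ) := by
  rw [trTop, comp_tr, MonObj.comp_mul, ← comp_coord, Category.comp_id]

theorem trTop_π (g : A.base ⟶ G) : trTop A hσ g ≫ A.π = A.π := by
  rw [trTop, tr_π, Category.assoc, hσ, Category.comp_id]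

theorem trTop_trTop (g h : A.base ⟶ G) : trTop A hσ g ≫ trTop A hσ h = trTop A hσ (g * h) := by
  have hc : coord A hσ (trTop A hσ g) = coord A hσ (𝟙 A.P) * (A.π ≫ g) := by
    refine tr_injective A (p := trTop A hσ g ≫ A.π ≫ σ) ((tr_coord A hσ _).trans ?_)
    rw [← Category.assoc (trTop A hσ g), trTop_π]
    rfl
  rw [comp_trTop, hc, ← Category.assoc (trTop A hσ g) A.π, trTop_π, ← Category.assoc (trTop A hσ g) A.π, trTop_π,
    trTop, MonObj.comp_mul, mul_assoc]

theorem trTop_one : trTop A hσ (1 : A.base ⟶ G) = 𝟙 A.P := by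
  rw [trTop, MonObj.comp_one, mul_one]
  simpa using tr_coord A hσ (𝟙 A.P)

theorem section_trTop (g : A.base ⟶ G) : σ ≫ trTop A hσ g = tr A g σ := by
  have h1 : coord A hσ σ = 1 := tr_injective A (p := σ ≫ A.π ≫ σ)
    ((tr_coord A hσ σ).trans (by rw [← Category.assoc, hσ, Category.id_comp, tr_one]))
  rw [comp_trTop, h1, one_mul, reassoc_of% hσ, ← Category.assoc, hσ, Category.id_comp]

/-- The automorphism of a torsor with a section given by a section of the group. -/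
noncomputable def autHom (g : A.base ⟶ G) : A ⟶ A where
  base := 𝟙 A.base
  top := trTop A hσ g
  eqv := by
    have h1 : (G ◁ trTop A hσ g) ≫ A.act.act = tr A (fst G A.P) (snd G A.P ≫ trTop A hσ g) := by
      rw [tr, ← lift_whiskerLeft]
      simp
    rw [h1, show A.act.act = tr A (fst G A.P) (snd G A.P) by simp [tr], comp_trTop, comp_trTop, coord_tr,
      ← Category.assoc (tr A _ _) A.π, tr_π, ← Category.assoc (tr A _ _) A.π, tr_π, mul_assoc, ← tr_tr]
    simp only [Category.assoc]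
  cart :=
    haveI : IsIso (trTop A hσ g) := ⟨trTop A hσ g⁻¹, by rw [trTop_trTop, mul_inv_cancel, trTop_one],
      by rw [trTop_trTop, inv_mul_cancel, trTop_one]⟩
    IsPullback.of_horiz_isIso ⟨by rw [trTop_π, Category.comp_id]⟩
  wφ := toUnit_unique _ _

include hσ in
theorem hom_ext_section {B : AlgSt.QuotObj Scheme.fppfPrecoverage G (AlgSt.trivAction G)} {m n : A ⟶ B}
    (hb : m.base = n.base) (h : σ ≫ m.top = σ ≫ n.top) : m = n := by
  refine AlgSt.QuotObj.hom_ext hb ?_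
  have key : ∀ (k : A ⟶ B), k.top = tr B (coord A hσ (𝟙 A.P)) (A.π ≫ σ ≫ k.top) := fun k => by
    have h1 : tr A (coord A hσ (𝟙 A.P)) (A.π ≫ σ) = 𝟙 A.P := by simpa using tr_coord A hσ (𝟙 A.P)
    refine ((congrArg (· ≫ k.top) h1).trans (Category.id_comp _)).symm.trans ?_
    rw [tr, tr, Category.assoc, k.eqv, ← Category.assoc, lift_whiskerLeft]
    simp only [Category.assoc]
  rw [key m, key n, h]

variable {𝒳 : AlgSt.Cat S} [FibCat.IsFibGrpd 𝒳.p] (x : FibCat.overCat (Over.mk (𝟙 S)) ⥤ᵇ 𝒳)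
  (r : Gerb.AutRep x (Gerb.ptsGrp (Over.mk (𝟙 S)) G)) (hs : Stk.IsStack (QuotSh.J Scheme.fppfPrecoverage S) 𝒳)

theorem exists_act {W : Over S} (a : xW x W ⟶ xW x W) (ha : 𝒳.p.map a = 𝟙 _) :
    ∃ g : W ⟶ G, act x r g = a := by
  obtain ⟨q, hq⟩ := (r.iso (ov (tB W))).surjective (GerbeEq.autOfVert a ha)
  refine ⟨Over.homMk q.left (Over.w q), ?_⟩
  have : (r.iso (ov (tB W)) q).hom.1 = a := by rw [hq]; rfl
  exact this

include hσ in
theorem autMap_bijective :
    haveI : FibCat.IsFibGrpd (AlgSt.BG Scheme.fppfPrecoverage G).p := QuotSch.isFibGrpd_quot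
    Function.Bijective (Gerb.autMap (pointFun x r hs) (A : (AlgSt.BG Scheme.fppfPrecoverage G).obj)) := by
  haveI : FibCat.IsFibGrpd (AlgSt.BG Scheme.fppfPrecoverage G).p := QuotSch.isFibGrpd_quot
  let σ' : xW x A.base ⟶ fObj x r hs A := xmap x σ ≫ uM x r hs A
  have hσ' : 𝒳.p.map σ' = eqToHom ((xW_base x _).trans (fObj_base x r hs A).symm) := by
    rw [Functor.map_comp, map_xmap, map_uM]
    simp [reassoc_of% hσ]
  haveI : IsIso σ' := isIso_of_vert σ' hσ'
  have key : ∀ (k : A ⟶ A) (g : A.base ⟶ G), σ ≫ k.top = tr A g σ →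
      σ' ≫ fMap x r hs k = act x r g⁻¹ ≫ σ' := fun k g hg => by
    change (xmap x σ ≫ uM x r hs A) ≫ _ = _
    rw [Category.assoc, uM_fMap, ← Category.assoc, ← xmap_comp, hg]
    exact isEqv_uM x r hs A g σ
  have hfib : ∀ α : Gerb.AutO (𝒳 := AlgSt.BG Scheme.fppfPrecoverage G) A,
      α.hom.1.base = 𝟙 A.base ∧ ∃ g : A.base ⟶ G, σ ≫ α.hom.1.top = tr A g σ := fun α => by
    have hb : α.hom.1.base = 𝟙 A.base := GerbeEq.map_autO α
    obtain ⟨g, hg⟩ := exists_tr A σ (σ ≫ α.hom.1.top) (by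
      rw [Category.assoc, α.hom.1.cart.w, hb, Category.comp_id])
    exact ⟨hb, g, hg.symm⟩
  constructor
  · intro α β e
    obtain ⟨hα, g, hg⟩ := hfib α
    obtain ⟨hβ, h, hh⟩ := hfib β
    have e' : fMap x r hs α.hom.1 = fMap x r hs β.hom.1 :=
      congrArg (fun γ : Gerb.AutO ((pointFun x r hs).obj A) => γ.hom.1) e
    have e'' : act x r g⁻¹ ≫ σ' = act x r h⁻¹ ≫ σ' := by rw [← key _ g hg, ← key _ h hh, e']
    have := inv_injective (act_injective x r ((cancel_mono σ').1 e''))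
    exact GerbeEq.autO_ext (hom_ext_section A hσ (hα.trans hβ.symm) (by rw [hg, hh, this]))
  · intro γ
    let γ' : fObj x r hs A ⟶ fObj x r hs A := γ.hom.1
    have hγ : 𝒳.p.map γ' = 𝟙 _ := GerbeEq.map_autO γ
    obtain ⟨g, hg⟩ := exists_act x r (σ' ≫ γ' ≫ inv σ') (by
      rw [𝒳.p.map_comp σ' (γ' ≫ inv σ'), 𝒳.p.map_comp γ' (inv σ'), Functor.map_inv 𝒳.p σ', hγ, Category.id_comp, IsIso.hom_inv_id])
    refine ⟨GerbeEq.autOfVert (autHom A hσ g⁻¹) rfl, GerbeEq.autO_ext ?_⟩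
    change fMap x r hs (autHom A hσ g⁻¹) = γ'
    rw [← cancel_epi σ', key _ g⁻¹ (section_trTop A hσ g⁻¹), inv_inv, hg]
    simp

end Aut

/-- A gerbe over the base with a point is the classifying stack of the automorphism group of the point. -/
theorem isQuotientOf_of_point [IsAffineHom G.hom] {𝒳 : AlgSt.Cat S} [FibCat.IsFibGrpd 𝒳.p]
    (hs : Stk.IsStack (QuotSh.J Scheme.fppfPrecoverage S) 𝒳)
    (π : 𝒳 ⥤ᵇ FibCat.overCat (Over.mk (𝟙 S))) (hπ : Gerb.IsGerbeOver (QuotSh.J Scheme.fppfPrecoverage S) π)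
    (x : FibCat.overCat (Over.mk (𝟙 S)) ⥤ᵇ 𝒳) (r : Gerb.AutRep x (Gerb.ptsGrp (Over.mk (𝟙 S)) G)) :
    AlgSt.IsQuotientOf Scheme.fppfPrecoverage G (AlgSt.trivAction G) 𝒳 := by
  haveI : FibCat.IsFibGrpd (AlgSt.BG Scheme.fppfPrecoverage G).p := QuotSch.isFibGrpd_quot
  have hY : Gerb.IsGerbe (QuotSh.J Scheme.fppfPrecoverage S) 𝒳 := by
    refine ⟨hs, fun U => ⟨⊤, GrothendieckTopology.top_mem _ _, fun V f _ => ⟨xW x V, eqToHom (xW_base x V) ≫ f,
      isHomLift_of_map (𝒳 := FibCat.selfOver (Over S)) _ (xW_base x V) rfl ?_⟩⟩, fun a a' b hb => ?_⟩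
    · exact congrArg (eqToHom (xW_base x V) ≫ ·) (Category.comp_id _).symm
    · have e : 𝒳.p.obj a' = 𝒳.p.obj a := IsHomLift.codomain_eq (FibCat.selfOver (Over S)).p (𝟙 (𝒳.p.obj a)) b
      let b' : π.obj a ⟶ π.obj a' := Over.homMk (eqToHom ((π.w_obj a).trans (e.symm.trans (π.w_obj a').symm)))
        (Over.mkIdTerminal.hom_ext _ _)
      obtain ⟨R, hR, h⟩ := hπ.2 a a' b' (isHomLift_id_of_map _ (π.w_obj a)
        (e := (π.w_obj a).trans (e.symm.trans (π.w_obj a').symm)) rfl)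
      refine ⟨R, hR, fun V f hf => ?_⟩
      obtain ⟨a₀, φ, ψ, hφ, hψ, -⟩ := h f hf
      refine ⟨a₀, φ, ψ, hφ, hψ, ?_⟩
      change 𝒳.p.map φ ≫ b = 𝒳.p.map ψ
      have h1 := IsHomLift.fac' 𝒳.p f φ
      have h2 := IsHomLift.fac' 𝒳.p f ψ
      have h3 := IsHomLift.fac' (FibCat.selfOver (Over S)).p (𝟙 (𝒳.p.obj a)) b
      rw [h1, h2, show b = _ from h3]
      simp
  let T₀ : Over S := Over.mk (𝟙 S)
  refine ⟨pointFun x r hs, GerbeEq.isEquivOver_of_gerbe (s := QuotSch.qObj _ G (AlgSt.trivAction G) (toUnit T₀))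
    isGerbe_BG hY Over.mkIdTerminal fun A m => ?_⟩
  exact autMap_bijective A (σ := m.cart.lift (m.base ≫ QuotSch.unitSec T₀) (𝟙 A.base) (by
    rw [Category.assoc, Category.id_comp]
    exact (congrArg (m.base ≫ ·) (QuotSch.unitSec_snd T₀)).trans (Category.comp_id _))) (m.cart.lift_snd _ _ _)
    x r hs

end Groth.Agent.BGPointLib
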